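import Cfsg.Agent.Lib.Chev.F4Two.Tables
import Cfsg.Agent.Lib.Chev.StSmallTypes

/-!
Perfect central extensions of the group of type F4 over two elements: commuting root subgroups stay
commuting, and the brackets of the pairs of roots at 120 degrees give canonical lifts.
-/

set_option autoImplicit false
set_option maxRecDepth 100000

namespace CfsgLib.F4Two

open Cfsg.Lie CfsgLib.Chev Matrix
open scoped commutatorElement

universe u v

variable {K : Type u} [Field K] [Fintype K] (hF : Fintype.card K = 2)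
variable {E : Type v} [Group E] (Y : Ext chevF4 K E)

include hF

lemma charTwo : CharP K 2 := charP_of_card Nat.prime_two (k := 1) (by rw [hF, pow_one])

lemma two_cases (t : K) : t = 0 ∨ t = 1 := by
  classical
  by_contra hc
  push Not at hc
  have h3 : ({0, 1, t} : Finset K).card ≤ 2 := hF ▸ Finset.card_le_univ _
  rw [Finset.card_insert_of_notMem (by simp [Ne.symm hc.1]),
    Finset.card_pair (Ne.symm hc.2)] at h3
  omega

lemma neg_eq' (t : K) : -t = t := by
  have := charTwo hF
  exact CharTwo.neg_eq t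

lemma cast_mod (c : ℤ) : (c : K) = ((c % 2 : ℤ) : K) := by
  have := charTwo hF
  conv_lhs => rw [← Int.emod_add_mul_ediv c 2]
  have h2 : (2 : K) = 0 := CharTwo.two_eq_zero
  push_cast
  rw [h2, zero_mul, add_zero]

lemma cast_odd {c : ℤ} (hc : c % 2 ≠ 0) : (c : K) = 1 := by
  rw [cast_mod hF, show c % 2 = 1 by omega, Int.cast_one]

lemma eta_cast (i r : ℕ) : (tabF4.eta i r : K) = 1 := by
  rcases tabF4.eta_cases i r with e | e <;> simp [e, neg_eq' hF]

omit [Fintype K] hF in
lemma lt48 {r : ℕ} (hr : r < 48) : r < tabF4.n := by rw [sizes.1]; exact hr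

omit [Fintype K] hF in
lemma lt4 {i : ℕ} (hi : i < 4) : i < tabF4.l := by rw [sizes.2]; exact hi

omit [Fintype K] hF in
lemma mem48 {r : ℕ} (hr : r < 48) : r ∈ List.range 48 := List.mem_range.2 hr

lemma X_sq {r : ℕ} (hr : r < 48) : X chevF4 r (1 : K) * X chevF4 r 1 = 1 := by
  have := charTwo hF
  rw [certF4.X_add (lt48 hr), CharTwo.add_self_eq_zero, certF4.X_zero (lt48 hr)]

lemma X_inv_one {r : ℕ} (hr : r < 48) : (X chevF4 r (1 : K))⁻¹ = X chevF4 r 1 :=
  inv_eq_of_mul_eq_one_right (X_sq hF hr)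

lemma commute_zero {r s : ℕ} (hz : tabF4.chkZero 2 r s = true) (t u : K) :
    Commute (X chevF4 r t) (X chevF4 s u) := by
  have := charTwo hF
  exact Ext.commute_of_chkZero certF4 hz t u

omit [Fintype K] hF in
lemma chkZero_lt {r s : ℕ} (hz : tabF4.chkZero 2 r s = true) :
    r < 48 ∧ s < 48 ∧ s ≠ r ∧ s ≠ tabF4.neg r := by
  simp only [Tab.chkZero, Bool.and_eq_true, decide_eq_true_eq, sizes.1] at hz
  exact hz.1

/-! ### Commuting root subgroups -/

lemma Z_split {r s a b : ℕ} (hS : tabF4.chkSplit 2 r s a b = true)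
    (hl : ∀ q ∈ (tabF4.commTerms a b).tail.map Prod.fst, Y.Z r q) : Y.Z r s := by
  have := charTwo hF
  exact Y.Z_of_chkSplit certF4 hS fun d hd _ _ _ _ => hl d.1 (List.mem_map.2 ⟨d, hd, rfl⟩)

lemma Z_single {e : ℕ × ℕ × ℕ × ℕ}
    (he : e ∈ [(44, 15, 16, 22), (44, 33, 18, 36), (44, 41, 15, 46), (47, 10, 12, 20),
      (47, 24, 6, 42), (47, 29, 10, 40), (44, 44, 33, 40), (47, 47, 24, 46), (44, 23, 16, 30),
      (47, 14, 12, 28)]) : Y.Z e.1 e.2.1 := by
  have h := List.all_eq_true.1 splits_ok e he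
  simp only [Bool.and_eq_true, decide_eq_true_eq] at h
  refine Z_split hF Y h.1 ?_
  obtain ⟨x, hx⟩ := List.length_eq_one_iff.1 h.2
  simp [hx]

lemma Z_short : Y.Z 44 18 := by
  refine Z_split hF Y splitShort_ok.1 fun q hq => ?_
  rw [splitShort_ok.2, List.mem_singleton] at hq
  subst hq
  exact Z_single hF Y (e := (44, 23, 16, 30)) (by simp)

lemma Z_long : Y.Z 47 6 := by
  obtain ⟨h10, h30, hT⟩ := splitLong_ok
  have lt : ∀ k, k < 48 → k < tabF4.n := fun k => lt48
  refine Y.Z_of_derived certF4 (lt 47 (by norm_num)) (S := {q | q = 10 ∨ q = 30}) (S' := {14})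
    (by rintro q (rfl | rfl) <;> exact lt _ (by norm_num))
    (by rintro q rfl; exact lt _ (by norm_num))
    (by rintro q (rfl | rfl); exacts [commute_zero hF h10, commute_zero hF h30])
    (by rintro q rfl; exact Z_single hF Y (e := (47, 14, 12, 28)) (by simp)) fun u => ?_
  rcases two_cases hF u with rfl | rfl
  · rw [certF4.X_zero (lt 6 (by norm_num))]; exact one_mem _
  have e := certF4.X_conj (F := K) (lt 10 (by norm_num)) (lt 30 (by norm_num)) (by norm_num)
    (by rw [Tab.neg, sizes.1]; norm_num) 1 1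
  have hp : ((tabF4.commTerms 10 30).map fun c =>
      X chevF4 c.1 ((c.2.1 : K) * (-1) ^ c.2.2.1 * 1 ^ c.2.2.2)) =
      ((tabF4.commTerms 10 30).map fun c : ℕ × ℤ × ℕ × ℕ => (c.1, c.2.1 % 2, c.2.2)).map
        fun c => X chevF4 c.1 ((c.2.1 : K)) := by
    rw [List.map_map]
    refine List.map_congr_left fun c _ => ?_
    simp [neg_eq' hF, ← cast_mod hF]
  rw [hp, hT] at e
  simp only [List.map_cons, List.map_nil, List.prod_cons, List.prod_nil, mul_one, Int.cast_one,
    neg_eq' hF] at e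
  have key : X chevF4 6 (1 : K) =
      X chevF4 14 1 * ⁅X chevF4 30 (1 : K), X chevF4 10 1⁆ := by
    rw [commutatorElement_def, X_inv_one hF (by norm_num), X_inv_one hF (by norm_num)]
    have : X chevF4 30 (1 : K) * X chevF4 10 1 * X chevF4 30 1 * X chevF4 10 1 =
        X chevF4 14 1 * X chevF4 6 1 := by
      calc X chevF4 30 (1 : K) * X chevF4 10 1 * X chevF4 30 1 * X chevF4 10 1
          = X chevF4 30 (1 : K) * (X chevF4 10 1 * X chevF4 30 1 * X chevF4 10 1) := by group
        _ = X chevF4 30 (1 : K) * X chevF4 30 1 * (X chevF4 14 1 * X chevF4 6 1) := by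
          rw [e, mul_assoc (X chevF4 30 (1 : K))]
        _ = _ := by rw [X_sq hF (by norm_num), one_mul]
    rw [this, ← mul_assoc, X_sq hF (by norm_num), one_mul]
  rw [key]
  exact mul_mem (Subgroup.mem_sup_right (X_mem_gen chevF4 (show 14 ∈ ({14} : Set ℕ) from rfl) 1))
    (Subgroup.mem_sup_left (Subgroup.commutator_mem_commutator
      (X_mem_gen chevF4 (show 30 ∈ {q | q = 10 ∨ q = 30} from Or.inr rfl) 1)
      (X_mem_gen chevF4 (show 10 ∈ {q | q = 10 ∨ q = 30} from Or.inl rfl) 1)))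

lemma Z_self {r : ℕ} (hr : r < 48) : Y.Z r r := by
  refine Y.Z_self_all certF4 (fun b hb => ?_) (lt48 hr)
  simp only [coverF4, List.mem_cons, List.not_mem_nil, or_false] at hb
  rcases hb with rfl | rfl
  · exact Z_single hF Y (e := (44, 44, 33, 40)) (by simp)
  · exact Z_single hF Y (e := (47, 47, 24, 46)) (by simp)

/-- Every pair commuting modulo two stays commuting. -/
theorem Z_all {r s : ℕ} (hz : tabF4.chkZero 2 r s = true) : Y.Z r s := by
  obtain ⟨hr, hs, hne, hneg⟩ := chkZero_lt hz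
  refine certF4.pair_induction (P := fun r s => tabF4.chkZero 2 r s = true → Y.Z r s)
    (fun i r s hi hr hs _ _ _ ih hz' => ?_) (fun b hb a ha _ _ hz' => ?_)
    (lt48 hr) (lt48 hs) hne hneg hz
  · rw [sizes.1] at hr hs
    rw [sizes.2] at hi
    have h := chkZero_refl
    simp only [List.all_eq_true, List.mem_range, Bool.or_eq_true, Bool.not_eq_true'] at h
    have h0 := (h i hi r hr s hs).resolve_left (by rw [hz']; exact Bool.noConfusion)
    exact Y.Z_refl certF4 (lt4 hi) (lt48 hr) (lt48 hs) (commute_zero hF h0) (ih h0)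
  · have hp := base_pairs
    simp only [List.all_eq_true, decide_eq_true_eq] at hp
    have hm := hp b hb a ha
    simp only [List.mem_cons, List.not_mem_nil, or_false, Prod.mk.injEq] at hm
    obtain ⟨f1, f2, f3, f4⟩ := base_zero_false
    rcases hm with ⟨e, rfl⟩ | ⟨e, rfl⟩ | ⟨e, rfl⟩ | ⟨e, rfl⟩ | ⟨e, rfl⟩ | ⟨e, rfl⟩ | ⟨e, rfl⟩ |
      ⟨e, rfl⟩ | ⟨e, rfl⟩ | ⟨e, rfl⟩ | ⟨e, rfl⟩ | ⟨e, rfl⟩ <;> rw [e] at hz' ⊢
    · exact absurd hz' (by rw [f1]; exact Bool.noConfusion)
    · exact absurd hz' (by rw [f2]; exact Bool.noConfusion)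
    · exact Z_single hF Y (e := (44, 15, 16, 22)) (by simp)
    · exact Z_short hF Y
    · exact Z_single hF Y (e := (44, 33, 18, 36)) (by simp)
    · exact Z_single hF Y (e := (44, 41, 15, 46)) (by simp)
    · exact absurd hz' (by rw [f3]; exact Bool.noConfusion)
    · exact absurd hz' (by rw [f4]; exact Bool.noConfusion)
    · exact Z_long hF Y
    · exact Z_single hF Y (e := (47, 10, 12, 20)) (by simp)
    · exact Z_single hF Y (e := (47, 24, 6, 42)) (by simp)
    · exact Z_single hF Y (e := (47, 29, 10, 40)) (by simp)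

lemma commute_lifts {r s : ℕ} (hz : tabF4.chkZero 2 r s = true) {a b : E} {t u : K}
    (ea : Y.θ a = X chevF4 r t) (eb : Y.θ b = X chevF4 s u) : Commute a b :=
  Y.commute_of_Z certF4 (Z_all hF Y hz) ea eb

/-! ### Brackets -/

omit [Fintype K] hF in
lemma brTo_spec {a b r : ℕ} (hb : brTo a b r = true) :
    a < 48 ∧ b < 48 ∧ b ≠ a ∧ b ≠ tabF4.neg a ∧
      ∃ c, tabF4.commTerms a b = [(r, c, 1, 1)] ∧ c % 2 ≠ 0 := by
  simp only [brTo, Bool.and_eq_true, decide_eq_true_eq] at hb
  obtain ⟨⟨h1, h2, h3, h4⟩, hm⟩ := hb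
  refine ⟨h1, h2, h3, h4, ?_⟩
  split at hm
  next k c hk =>
    simp only [Bool.and_eq_true, decide_eq_true_eq] at hm
    obtain ⟨e, hc⟩ := hm
    exact ⟨c, by rw [hk, Nat.eq_of_beq_eq_true e], hc⟩
  next => cases hm

omit [Fintype K] hF in
lemma brTo_lt {a b r : ℕ} (hb : brTo a b r = true) : r < 48 := by
  obtain ⟨ha, hb', -, -, c, hc, -⟩ := brTo_spec hb
  have := certF4.commTerms_lt (lt48 ha) (lt48 hb') (hc ▸ List.mem_cons_self)
  rwa [sizes.1] at this

omit [Fintype K] hF in
lemma brTo_zero' {a b r : ℕ} (hb : brTo a b r = true) : tabF4.chkZero 2 b r = true := by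
  obtain ⟨ha, hb', -, -, c, hc, -⟩ := brTo_spec hb
  have h := brTo_zero
  simp only [List.all_eq_true, List.mem_range] at h
  have h1 := h a ha b hb'
  rw [hc] at h1
  simpa [hb] using h1

omit [Fintype K] hF in
lemma brTo_refl' {i a b r : ℕ} (hi : i < 4) (hb : brTo a b r = true) :
    brTo (tabF4.refl i a) (tabF4.refl i b) (tabF4.refl i r) = true := by
  obtain ⟨ha, hb', -, -, c, hc, -⟩ := brTo_spec hb
  have h := brTo_refl
  simp only [List.all_eq_true, List.mem_range] at h
  have h1 := h i hi a ha b hb'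
  rw [hc] at h1
  simpa [hb] using h1

omit [Fintype K] hF in
lemma pairOf_spec {r : ℕ} (hr : r < 48) : brTo (pairOf r).1 (pairOf r).2 r = true :=
  List.all_eq_true.1 pairOf_ok r (mem48 hr)

/-- The bracket of two root elements. -/
noncomputable def brX (Y : Ext chevF4 K E) (a b : ℕ) : E :=
  Y.br (X chevF4 a (1 : K)) (X chevF4 b 1)

lemma θ_brX {a b r : ℕ} (hb : brTo a b r = true) : Y.θ (brX Y a b) = X chevF4 r 1 := by
  obtain ⟨ha, hb', hne, hneg, c, hc, hodd⟩ := brTo_spec hb
  have hr := brTo_lt hb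
  rw [brX, Y.θ_br (certF4.X_mem_group (lt48 ha) _) (certF4.X_mem_group (lt48 hb') _),
    commutatorElement_def, X_inv_one hF ha, X_inv_one hF hb']
  have e := certF4.X_conj (F := K) (lt48 ha) (lt48 hb') hne hneg 1 1
  rw [hc] at e
  simp only [List.map_cons, List.map_nil, List.prod_cons, List.prod_nil, mul_one, pow_one,
    cast_odd hF hodd, neg_eq' hF] at e
  rw [e, mul_assoc, ← (commute_zero hF (brTo_zero' hb) 1 1).eq, ← mul_assoc, X_sq hF hb', one_mul]

lemma brX_sq {a b r : ℕ} (hb : brTo a b r = true) : brX Y a b * brX Y a b = 1 := by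
  obtain ⟨ha, hb', -⟩ := brTo_spec hb
  have ga := certF4.X_mem_group (F := K) (lt48 ha) 1
  have gb := certF4.X_mem_group (F := K) (lt48 hb') 1
  have := Y.br_mul_of_commute ga gb gb
    (commute_lifts hF Y (brTo_zero' hb) (Y.θ_lft gb) (θ_brX hF Y hb))
  rw [X_sq hF hb', Y.br_eq (a := Y.lft (X chevF4 a (1 : K))) (b := 1) (Y.θ_lft ga) (map_one _),
    commutatorElement_one_right] at this
  exact this.symm

omit hF in
lemma brX_swap (a b : ℕ) : brX Y b a = (brX Y a b)⁻¹ := Y.br_swap _ _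

lemma conj_brX {i a b : ℕ} (hi : i < 4) (ha : a < 48) (hb : b < 48) :
    Y.lft (nS chevF4 K i) * brX Y a b * (Y.lft (nS chevF4 K i))⁻¹ =
      brX Y (tabF4.refl i a) (tabF4.refl i b) := by
  have hn : nS chevF4 K i ∈ chevF4.group K :=
    certF4.monomial_le_group (certF4.nS_mem_monomial (lt4 hi))
  rw [brX, Y.conj_br _ (certF4.X_mem_group (lt48 ha) _) (certF4.X_mem_group (lt48 hb) _),
    Y.θ_lft hn, certF4.nS_conj_X (lt4 hi) (lt48 ha), certF4.nS_conj_X (lt4 hi) (lt48 hb),
    eta_cast hF, eta_cast hF, mul_one]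
  rfl

lemma conj_fix {i r : ℕ} (hi : i < 4) (h1 : tabF4.chkZero 2 r (tabF4.simple i) = true)
    (h2 : tabF4.chkZero 2 r (tabF4.neg (tabF4.simple i)) = true) {g : E} {t : K}
    (hg : Y.θ g = X chevF4 r t) : Y.lft (nS chevF4 K i) * g * (Y.lft (nS chevF4 K i))⁻¹ = g := by
  have hp := certF4.simple_lt (lt4 hi)
  have hq := Cert.neg_lt (T := tabF4) hp
  set a := Y.lft (X chevF4 (tabF4.simple i) (1 : K))
  set b := Y.lft (X chevF4 (tabF4.neg (tabF4.simple i)) (1 : K))
  have ea : Y.θ a = X chevF4 (tabF4.simple i) (1 : K) := Y.θ_lft (certF4.X_mem_group hp _)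
  have eb : Y.θ b = X chevF4 (tabF4.neg (tabF4.simple i)) (1 : K) :=
    Y.θ_lft (certF4.X_mem_group hq _)
  have hn : nS chevF4 K i = Y.θ (a * b * a) := by
    rw [map_mul, map_mul, ea, eb, nS, certF4.simple_eq (lt4 hi), nU, certF4.neg_eq hp, inv_one,
      neg_eq' hF]
  rw [Y.conj_congr (g' := a * b * a)
    (by rw [Y.θ_lft (certF4.monomial_le_group (certF4.nS_mem_monomial (lt4 hi))), hn])]
  have ca := (commute_lifts hF Y h1 hg ea).symm
  have cb := (commute_lifts hF Y h2 hg eb).symm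
  exact mul_inv_eq_iff_eq_mul.2 ((ca.mul_left cb).mul_left ca).eq

/-- The canonical lifts. -/
noncomputable def lx (Y : Ext chevF4 K E) (r : ℕ) (t : K) : E :=
  open Classical in if t = 0 then 1 else brX Y (pairOf r).1 (pairOf r).2

omit hF in
lemma lx_zero (r : ℕ) : lx Y r (0 : K) = 1 := by rw [lx, if_pos rfl]

omit hF in
lemma lx_one (r : ℕ) : lx Y r (1 : K) = brX Y (pairOf r).1 (pairOf r).2 := by
  rw [lx, if_neg one_ne_zero]

/-- All the brackets of a root agree. -/
theorem brX_eq {a b r : ℕ} (hb : brTo a b r = true) : brX Y a b = lx Y r 1 := by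
  suffices H : ∀ r < tabF4.n, ∀ a b, brTo a b r = true → brX Y a b = lx Y r 1 from
    H r (lt48 (brTo_lt hb)) a b hb
  intro r hr
  refine certF4.base_induction (P := fun r => ∀ a b, brTo a b r = true → brX Y a b = lx Y r 1)
    (fun c hc a b hab => ?_) (fun i hi r hr _ ih a b hab => ?_) hr
  · have hc' : c.1 ∈ [44, 47] := by
      simp only [coverF4, List.mem_cons, List.not_mem_nil, or_false] at hc
      rcases hc with rfl | rfl <;> simp
    have h := List.all_eq_true.1 reach_ok c.1 hc'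
    simp only [Bool.and_eq_true, List.all_eq_true, Bool.or_eq_true, Bool.not_eq_true',
      List.any_eq_true, decide_eq_true_eq, List.mem_range] at h
    obtain ⟨hfix, hcov⟩ := h
    have hr' : c.1 < 48 := by
      simp only [List.mem_cons, List.not_mem_nil, or_false] at hc'
      omega
    set r := c.1
    have p0 := brTo_spec (pairOf_spec hr')
    have key : ∀ k L, (∀ p ∈ L, p.1 < 48 ∧ p.2 < 48 ∧ brX Y p.1 p.2 = lx Y r 1) →
        ∀ p ∈ reach r k L, p.1 < 48 ∧ p.2 < 48 ∧ brX Y p.1 p.2 = lx Y r 1 := by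
      intro k
      induction k with
      | zero => exact fun L h => h
      | succ k ihk =>
        intro L hL
        refine ihk _ fun p hp => ?_
        rw [List.mem_eraseDups, List.mem_append, List.mem_flatMap] at hp
        rcases hp with hp | ⟨q, hq, hp⟩
        · exact hL p hp
        obtain ⟨q1, q2, q3⟩ := hL q hq
        rcases List.mem_cons.1 hp with rfl | hp
        · refine ⟨q2, q1, ?_⟩
          rw [brX_swap, q3]
          exact inv_eq_of_mul_eq_one_right (by rw [lx_one]; exact brX_sq hF Y (pairOf_spec hr'))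
        · obtain ⟨i, hi, rfl⟩ := List.mem_map.1 hp
          obtain ⟨⟨⟨hi4, -⟩, z1⟩, z2⟩ := hfix i hi
          have l1 := certF4.refl_lt (lt4 hi4) (lt48 q1)
          have l2 := certF4.refl_lt (lt4 hi4) (lt48 q2)
          rw [sizes.1] at l1 l2
          refine ⟨l1, l2, ?_⟩
          rw [← conj_brX hF Y hi4 q1 q2, q3]
          exact conj_fix hF Y hi4 z1 z2 (t := (1 : K))
            (by rw [lx_one]; exact θ_brX hF Y (pairOf_spec hr'))
    obtain ⟨ha, hb', -⟩ := brTo_spec hab
    obtain ⟨p, hp, hpa, hpb⟩ := (hcov a ha b hb').resolve_left (by rw [hab]; exact Bool.noConfusion)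
    have := key 3 [pairOf r] (fun p hp => by
      rw [List.mem_singleton] at hp
      subst hp
      exact ⟨p0.1, p0.2.1, (lx_one Y r).symm⟩) p hp
    rw [← Nat.eq_of_beq_eq_true hpa, ← Nat.eq_of_beq_eq_true hpb]
    exact this.2.2
  · have hi4 : i < 4 := sizes.2 ▸ hi
    have back : ∀ a b, brTo a b (tabF4.refl i r) = true → brX Y a b =
        Y.lft (nS chevF4 K i) * lx Y r 1 * (Y.lft (nS chevF4 K i))⁻¹ := by
      intro a b hab
      have h' := brTo_refl' hi4 hab
      rw [certF4.refl_refl hi hr] at h'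
      obtain ⟨ha', hb', -⟩ := brTo_spec h'
      obtain ⟨ha, hb, -⟩ := brTo_spec hab
      rw [← ih _ _ h', conj_brX hF Y hi4 ha' hb', certF4.refl_refl hi (lt48 ha),
        certF4.refl_refl hi (lt48 hb)]
    have hr' : tabF4.refl i r < 48 := sizes.1 ▸ certF4.refl_lt hi hr
    rw [back a b hab, lx_one Y (tabF4.refl i r), back _ _ (pairOf_spec hr')]

/-- The lifts are respected by the monomial elements. -/
noncomputable def canon : Y.Canon tabF4 where
  x := lx Y
  θ_x r hr t := by
    rcases two_cases hF t with rfl | rfl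
    · rw [lx_zero, map_one, certF4.X_zero hr]
    · rw [lx_one]; exact θ_brX hF Y (pairOf_spec (sizes.1 ▸ hr))
  x_add r hr t u := by
    have := charTwo hF
    rcases two_cases hF t with rfl | rfl <;> rcases two_cases hF u with rfl | rfl <;>
      simp only [lx_zero, one_mul, mul_one, add_zero, zero_add, CharTwo.add_self_eq_zero]
    rw [lx_one]
    exact brX_sq hF Y (pairOf_spec (sizes.1 ▸ hr))
  nu i hi r hr t := by
    rw [eta_cast hF, one_mul]
    rcases two_cases hF t with rfl | rfl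
    · simp only [lx_zero, mul_one, mul_inv_cancel]
    · have hp := pairOf_spec (sizes.1 ▸ hr)
      obtain ⟨ha, hb, -⟩ := brTo_spec hp
      rw [lx_one, conj_brX hF Y (sizes.2 ▸ hi) ha hb]
      exact brX_eq hF Y (brTo_refl' (sizes.2 ▸ hi) hp)
  tor w r hr t := by
    have hw : w = 1 := funext fun j => Units.ext ((two_cases hF _).resolve_left (w j).ne_zero)
    have hchi : chi tabF4 w r = 1 := (two_cases hF _).resolve_left
      (Cert.charOf_ne_zero (fun i _ => Cert.extC_ne_zero w i) r)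
    rw [hchi, one_mul, Y.conj_congr (g' := 1) ?_, one_mul, inv_one, mul_one]
    rw [Y.θ_lft (Ext.torusHom_mem certF4 w), hw, map_one, map_one]

end CfsgLib.F4Two
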