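import Cfsg.Agent.Lib.Chev.F4Two.Defs
import Cfsg.Agent.Lib.Chev.StCTCheck

/-! Identities among the matrices and facts on the rank two subsystems. -/

set_option autoImplicit false
set_option maxRecDepth 100000
set_option maxHeartbeats 4000000

namespace CfsgLib.F4Two

open CfsgLib.Chev

theorem ids_ok : (sameP [34, 14, 34, 14] [27] && sameP [26, 23, 26, 23] [25] &&
    sameP [25, 22, 25, 27, 25, 22, 25] [28] && sameP [27, 20, 27, 25, 27, 20, 27] [30] &&
    oppP [25, 27, 25] [27, 28, 30]) = true := by
  decide +kernel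

theorem scal_ok : ([1, 2].all fun s => eqL (scalRows s) ((scalM s).map pack)) = true := by
  decide +kernel

theorem inP2_ok : rankTwoRoots.all (fun r => tabF4.inP2 r) = true := by decide +kernel

theorem span_cover : ((List.range 4).all fun i => (List.range 4).all fun j =>
    (List.range 48).all fun r => (List.range 48).all fun s =>
      !(tabF4.inSub i j r && tabF4.inSub i j s) ||
        spansF4.any fun l => decide (r ∈ l ∧ s ∈ l)) = true := by
  decide +kernel

theorem exps_ok : (spansF4.all fun l => l.all fun r => l.all fun s =>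
    (tabF4.commTerms r s).all fun c => decide (c.2.2.1 ≠ 0 ∧ c.2.2.2 ≠ 0)) = true := by
  decide +kernel

theorem spans_len : spansF4.length = 6 := rfl

theorem id_tabs : tabF4.simple 1 = 27 ∧ tabF4.simple 2 = 25 ∧ tabF4.refl 1 25 = 30 ∧
    tabF4.refl 2 27 = 28 ∧
    ([34, 14, 26, 23, 25, 22, 27, 20, 28, 30].all fun r => decide (r ∈ rankTwoRoots)) = true := by
  decide +kernel

theorem id_terms : (tabF4.commTerms 25 27).map
    (fun c : ℕ × ℤ × ℕ × ℕ => (c.1, c.2.1 % 2, c.2.2)) = [(28, 1, 1, 1), (30, 1, 1, 2)] := by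
  decide +kernel

end CfsgLib.F4Two
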