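import Cfsg.Agent.Lib.Chev.F4Two.Defs

/-! The relations of one subsystem. -/

set_option autoImplicit false
set_option maxRecDepth 100000
set_option maxHeartbeats 4000000

namespace CfsgLib.F4Two

theorem span_ok_4 : spanOK (spansF4.getD 4 []) = true := by decide +kernel

end CfsgLib.F4Two
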