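import Cfsg.Agent.Lib.Chev.F4Two.Bracket
import Cfsg.Agent.Lib.Chev.StMultiplier

/-!
An upper bound for the Schur multiplier of the group of type F4 over two elements: modulo the defect
of one commutator relation of a long and a short root, Steinberg's relations hold.
-/

set_option autoImplicit false
set_option maxRecDepth 100000

namespace CfsgLib.F4Two

open Cfsg.Lie CfsgLib.Chev Matrix
open scoped commutatorElement

universe u v w

variable {K : Type u} [Field K] [Fintype K] (hF : Fintype.card K = 2)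
variable {E : Type v} [Group E] (Y : Ext chevF4 K E)

include hF

/-- The defect of the relation of the pair `(47, 3)`. -/
noncomputable def defect (Y : Ext chevF4 K E) : E :=
  lx Y 47 1 * lx Y 3 1 * lx Y 47 1 * (lx Y 3 1 * (lx Y 29 1 * lx Y 6 1))⁻¹

lemma terms_one {r s : ℕ} {L : List (ℕ × ℤ × ℕ × ℕ)}
    (hL : (tabF4.commTerms r s).map (fun c : ℕ × ℤ × ℕ × ℕ => (c.1, c.2.1 % 2, c.2.2)) = L) :
    (canon hF Y).lift.terms r s 1 1 = (L.map fun e => lx Y e.1 ((e.2.1 : K))).prod := by
  subst hL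
  rw [RootLift.terms, List.map_map]
  refine congrArg List.prod (List.map_congr_left fun c _ => ?_)
  simp only [Function.comp_apply, neg_eq' hF, one_pow, mul_one, ← cast_mod hF]
  rfl

lemma terms_off {r s : ℕ} {L : List (ℕ × ℤ × ℕ × ℕ)}
    (hL : (tabF4.commTerms r s).map (fun c : ℕ × ℤ × ℕ × ℕ => (c.1, c.2.1 % 2, c.2.2)) = L)
    (he : ∀ e ∈ L, e.2.2.1 ≠ 0 ∧ e.2.2.2 ≠ 0) (t u : K) (h0 : t = 0 ∨ u = 0) :
    (canon hF Y).lift.terms r s t u = 1 := by
  rw [RootLift.terms]
  refine List.prod_eq_one fun x hx => ?_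
  obtain ⟨c, hc, rfl⟩ := List.mem_map.1 hx
  obtain ⟨h1, h2⟩ := he (c.1, c.2.1 % 2, c.2.2) (hL ▸ List.mem_map.2 ⟨c, hc, rfl⟩)
  rw [show (c.2.1 : K) * (-t) ^ c.2.2.1 * u ^ c.2.2.2 = 0 from ?_]
  · exact lx_zero Y c.1
  rcases h0 with rfl | rfl
  · rw [neg_zero, zero_pow h1, mul_zero, zero_mul]
  · rw [zero_pow h2, mul_zero]

/-- A relation from its value at unit parameters. -/
lemma commAt_of_one {r s : ℕ} (hr : r < 48) {L : List (ℕ × ℤ × ℕ × ℕ)}
    (hL : (tabF4.commTerms r s).map (fun c : ℕ × ℤ × ℕ × ℕ => (c.1, c.2.1 % 2, c.2.2)) = L)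
    (he : ∀ e ∈ L, e.2.2.1 ≠ 0 ∧ e.2.2.2 ≠ 0)
    (h1 : lx Y r 1 * lx Y s 1 * lx Y r 1 =
      lx Y s 1 * (L.map fun e => lx Y e.1 ((e.2.1 : K))).prod) :
    (canon hF Y).lift.CommAt r s := by
  have hsq : lx Y r 1 * lx Y r 1 = (1 : E) := by
    rw [lx_one]; exact brX_sq hF Y (pairOf_spec hr)
  intro t u
  show lx Y r (-t) * lx Y s u * lx Y r t = lx Y s u * _
  rw [neg_eq' hF]
  rcases two_cases hF t with rfl | rfl
  · rw [terms_off hF Y hL he _ _ (Or.inl rfl), lx_zero, one_mul, mul_one]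
  rcases two_cases hF u with rfl | rfl
  · rw [terms_off hF Y hL he _ _ (Or.inr rfl), lx_zero, one_mul, mul_one]
    exact hsq
  · rw [terms_one hF Y hL]; exact h1

lemma lx_sq {r : ℕ} (hr : r < 48) : lx Y r 1 * lx Y r 1 = (1 : E) := by
  rw [lx_one]; exact brX_sq hF Y (pairOf_spec hr)

lemma θ_lx {r : ℕ} (hr : r < 48) : Y.θ (lx Y r 1) = X chevF4 r (1 : K) :=
  (canon hF Y).θ_x r (lt48 hr) 1

lemma lx_comm {r s : ℕ} (hz : tabF4.chkZero 2 r s = true) :
    Commute (lx Y r (1 : K)) (lx Y s 1) :=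
  commute_lifts hF Y hz (θ_lx hF Y (chkZero_lt hz).1) (θ_lx hF Y (chkZero_lt hz).2.1)

/-- A bracket pair satisfies its relation. -/
lemma bracket_rel {a b r : ℕ} (hb : brTo a b r = true) :
    lx Y a 1 * lx Y b 1 * lx Y a 1 = lx Y b 1 * lx Y r (1 : K) := by
  obtain ⟨ha, hb', -⟩ := brTo_spec hb
  have e : lx Y r (1 : K) = ⁅lx Y a (1 : K), lx Y b 1⁆ := by
    rw [← brX_eq hF Y hb]
    exact Y.br_eq (θ_lx hF Y ha) (θ_lx hF Y hb')
  have hc := lx_comm hF Y (brTo_zero' hb)
  rw [hc.eq, e, commutatorElement_def, inv_eq_of_mul_eq_one_right (lx_sq hF Y ha),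
    inv_eq_of_mul_eq_one_right (lx_sq hF Y hb'), mul_assoc (lx Y a (1 : K) * lx Y b 1 * lx Y a 1),
    lx_sq hF Y hb', mul_one]

lemma θ_defect : Y.θ (defect Y) = 1 := by
  have e := certF4.X_conj (F := K) (lt48 (r := 47) (by norm_num)) (lt48 (r := 3) (by norm_num))
    (by norm_num) (by rw [Tab.neg, sizes.1]; norm_num) 1 1
  have hp : ((tabF4.commTerms 47 3).map fun c =>
      X chevF4 c.1 ((c.2.1 : K) * (-1) ^ c.2.2.1 * 1 ^ c.2.2.2)) =
      ((tabF4.commTerms 47 3).map fun c : ℕ × ℤ × ℕ × ℕ => (c.1, c.2.1 % 2, c.2.2)).map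
        fun c => X chevF4 c.1 ((c.2.1 : K)) := by
    rw [List.map_map]
    refine List.map_congr_left fun c _ => ?_
    simp [neg_eq' hF, ← cast_mod hF]
  rw [hp, terms_47_3] at e
  simp only [List.map_cons, List.map_nil, List.prod_cons, List.prod_nil, mul_one, Int.cast_one,
    neg_eq' hF] at e
  rw [defect, map_mul, map_mul, map_mul, map_inv, map_mul, map_mul, θ_lx hF Y (by norm_num),
    θ_lx hF Y (by norm_num), θ_lx hF Y (by norm_num), θ_lx hF Y (by norm_num), e, mul_inv_cancel]

lemma defect_sq : defect Y * defect Y = 1 := by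
  set z := defect Y with hz
  set a := lx Y 47 (1 : K)
  set s := lx Y 3 (1 : K)
  set P := lx Y 29 (1 : K) * lx Y 6 1
  have hzc : ∀ y, Commute z y := fun y => Y.commute_of_θ_eq_one (θ_defect hF Y) y
  have h1 : a * s * a = z * (s * P) := by
    rw [hz, defect, inv_mul_cancel_right]
  obtain ⟨-, -, -, z1, z2, z3⟩ := value_facts
  have haP : Commute a P := (lx_comm hF Y z2).mul_right (lx_comm hF Y z3)
  have hP : P * P = 1 := by
    show _ * _ * (_ * _) = 1
    rw [mul_assoc, ← mul_assoc (lx Y 6 (1 : K)), ← (lx_comm hF Y z1).eq,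
      mul_assoc (lx Y 29 (1 : K)), lx_sq hF Y (by norm_num), mul_one,
      lx_sq hF Y (by norm_num)]
  have ha := lx_sq hF Y (r := 47) (by norm_num)
  have h2 : s = z * z * s := by
    calc s = a * a * s * (a * a) := by rw [ha, one_mul, mul_one]
      _ = a * (a * s * a) * a := by group
      _ = a * (z * (s * P)) * a := by rw [h1]
      _ = z * (a * s * (P * a)) := by
        rw [← mul_assoc a z, ← (hzc a).eq]; simp only [mul_assoc]
      _ = z * (a * s * a * P) := by rw [← haP.eq]; simp only [mul_assoc]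
      _ = z * (z * (s * (P * P))) := by rw [h1]; simp only [mul_assoc]
      _ = z * z * s := by rw [hP, mul_one, mul_assoc]
  exact (right_eq_mul.1 h2)

variable (hz : defect Y = 1)
include hz

lemma commAt_long : (canon hF Y).lift.CommAt 47 3 := by
  refine commAt_of_one hF Y (by norm_num) terms_47_3 (by simp) ?_
  have h := hz
  rw [defect, mul_inv_eq_one] at h
  simpa using h

lemma commAt_path : ∀ (w : List ℕ) (p : ℕ × ℕ), pathOK w p = true →
    (canon hF Y).lift.CommAt p.1 p.2 →
      (canon hF Y).lift.CommAt (w.foldl pathStep p).1 (w.foldl pathStep p).2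
  | [], _, _, hc => hc
  | i :: w, p, hok, hc => by
    simp only [pathOK, Bool.and_eq_true, decide_eq_true_eq] at hok
    obtain ⟨⟨⟨hi, h1, h2⟩, he⟩, hrest⟩ := hok
    exact commAt_path w _ hrest
      ((canon hF Y).commAt_refl certF4 (lt4 hi) (lt48 h1) (lt48 h2) he hc)

lemma commAt_short : (canon hF Y).lift.CommAt 44 0 := by
  have h := commAt_path hF Y hz pathF4 (47, 3) path_ok.1 (commAt_long hF Y hz)
  rw [path_ok.2] at h
  have h1 := h 1 1
  rw [terms_one hF Y terms_0_44] at h1
  have hl : ∀ r t, (canon hF Y).lift.x r t = lx Y r t := fun _ _ => rfl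
  simp only [hl, neg_eq' hF, List.map_cons, List.map_nil, List.prod_cons, List.prod_nil, mul_one,
    Int.cast_one] at h1
  refine commAt_of_one hF Y (by norm_num) terms_44_0 (by simp) ?_
  simp only [List.map_cons, List.map_nil, List.prod_cons, List.prod_nil, mul_one, Int.cast_one]
  set a := lx Y 44 (1 : K)
  set b := lx Y 0 (1 : K)
  set Q := lx Y 18 (1 : K) * lx Y 41 1
  have ha := lx_sq hF Y (r := 44) (by norm_num)
  have hb := lx_sq hF Y (r := 0) (by norm_num)
  have hQ : Q⁻¹ = Q := by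
    show (_ * _)⁻¹ = _
    rw [_root_.mul_inv_rev, inv_eq_of_mul_eq_one_right (lx_sq hF Y (r := 18) (by norm_num)),
      inv_eq_of_mul_eq_one_right (lx_sq hF Y (r := 41) (by norm_num))]
    exact (lx_comm hF Y value_facts.2.2.1).symm.eq
  have h2 : a * b * (a * b) = Q := by
    calc a * b * (a * b) = a * (b * a * b) := by simp only [mul_assoc]
      _ = a * (a * Q) := by rw [h1]
      _ = Q := by rw [← mul_assoc, ha, one_mul]
  have h3 : b * a * (b * a) = Q := by
    rw [← hQ, ← h2, _root_.mul_inv_rev, _root_.mul_inv_rev, inv_eq_of_mul_eq_one_right ha,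
      inv_eq_of_mul_eq_one_right hb]
  calc a * b * a = b * (b * a * (b * a)) := by
        rw [← mul_assoc b (b * a), ← mul_assoc b b, hb, one_mul, mul_assoc]
    _ = b * Q := by rw [h3]

/-- Without the defect all the relations hold. -/
theorem rel_of_defect : ∃ L : Rel chevF4 tabF4 K E, L.π = Y.θ := by
  refine ⟨{ x := (canon hF Y).x, π := Y.θ, π_x := (canon hF Y).θ_x, x_add := (canon hF Y).x_add,
            comm := fun r hr s hs hne hneg => ?_,
            generate := Ext.generate_top (canon hF Y) certF4 }, rfl⟩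
  refine certF4.pair_induction (P := fun r s => (canon hF Y).lift.CommAt r s)
    (fun i r s hi hr hs _ _ he hP => (canon hF Y).commAt_refl certF4 hi hr hs he hP)
    (fun b hb a ha _ _ => ?_) hr hs hne hneg
  have hp := base_pairs
  simp only [List.all_eq_true, decide_eq_true_eq] at hp
  have hm := hp b hb a ha
  have hE := terms_empty
  simp only [List.all_eq_true, List.isEmpty_iff] at hE
  have empty : ∀ p : ℕ × ℕ, p ∈ [(44, 15), (44, 33), (44, 41), (47, 6), (47, 10), (47, 24), (47, 29)] →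
      tabF4.chkZero 2 p.1 p.2 = true → (canon hF Y).lift.CommAt p.1 p.2 := fun p hp hz' =>
    commAt_of_one hF Y (chkZero_lt hz').1 (L := []) (by rw [hE p hp]; rfl) (by simp) (by
      rw [List.map_nil, List.prod_nil, mul_one, (lx_comm hF Y hz').eq, mul_assoc,
        lx_sq hF Y (chkZero_lt hz').1, mul_one])
  simp only [List.mem_cons, List.not_mem_nil, or_false, Prod.mk.injEq] at hm
  rcases hm with ⟨e, rfl⟩ | ⟨e, rfl⟩ | ⟨e, rfl⟩ | ⟨e, rfl⟩ | ⟨e, rfl⟩ | ⟨e, rfl⟩ | ⟨e, rfl⟩ |
    ⟨e, rfl⟩ | ⟨e, rfl⟩ | ⟨e, rfl⟩ | ⟨e, rfl⟩ | ⟨e, rfl⟩ <;> rw [e]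
  · exact commAt_short hF Y hz
  · refine commAt_of_one hF Y (by norm_num) terms_44_7 (by simp) ?_
    simpa using bracket_rel hF Y value_facts.1
  · exact empty (44, 15) (by simp) (by decide +kernel)
  · refine commAt_of_one hF Y (by norm_num) terms_44_18 (by simp) ?_
    have hc := lx_comm hF Y (r := 44) (s := 18) (by decide +kernel)
    simp [lx_zero, hc.eq, mul_assoc, lx_sq hF Y (r := 44) (by norm_num)]
  · exact empty (44, 33) (by simp) (by decide +kernel)
  · exact empty (44, 41) (by simp) (by decide +kernel)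
  · refine commAt_of_one hF Y (by norm_num) terms_47_1 (by simp) ?_
    simpa using bracket_rel hF Y value_facts.2.1
  · exact commAt_long hF Y hz
  · exact empty (47, 6) (by simp) (by decide +kernel)
  · exact empty (47, 10) (by simp) (by decide +kernel)
  · exact empty (47, 24) (by simp) (by decide +kernel)
  · exact empty (47, 29) (by simp) (by decide +kernel)

omit hz

lemma map_brX {E' : Type w} [Group E'] (Y' : Ext chevF4 K E') (q : E →* E')
    (hq : ∀ e, Y'.θ (q e) = Y.θ e) {a b : ℕ} (ha : a < 48) (hb : b < 48) :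
    q (brX Y a b) = brX Y' a b := by
  rw [brX, brX, Ext.br, map_commutatorElement]
  exact (Y'.br_eq ((hq _).trans (Y.θ_lft (certF4.X_mem_group (lt48 ha) _)))
    ((hq _).trans (Y.θ_lft (certF4.X_mem_group (lt48 hb) _)))).symm

lemma map_defect {E' : Type w} [Group E'] (Y' : Ext chevF4 K E') (q : E →* E')
    (hq : ∀ e, Y'.θ (q e) = Y.θ e) : q (defect Y) = defect Y' := by
  have h : ∀ r < 48, q (lx Y r (1 : K)) = lx Y' r 1 := fun r hr => by
    rw [lx_one, lx_one]
    exact map_brX hF Y Y' q hq (brTo_spec (pairOf_spec hr)).1 (brTo_spec (pairOf_spec hr)).2.1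
  simp only [defect, map_mul, map_inv, h 47 (by norm_num), h 3 (by norm_num), h 29 (by norm_num),
    h 6 (by norm_num)]

omit hF in
/-- The group is perfect. -/
theorem commutator_group_F4 : commutator ↥(chevF4.group K) = ⊤ :=
  certF4.commutator_group_top (by unfold Rel.Nbr; decide +kernel)
    (perfect_cover (by simp) fun hB =>
      absurd (congrArg ChevalleyDatum.nroots hB) (by decide +kernel))

omit hF in
/-- The cover of the group is the group itself. -/
theorem ker_stTheta_F4 :
    (certF4.stTheta (K := K) (R := chevF4.steinbergRelsAB K) le_rfl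
      (steinbergRelsAB_subset chevF4 K)).ker = ⊥ := by
  have hnb : Rel.Nbr tabF4 := by unfold Rel.Nbr; decide +kernel
  rw [certF4.ker_stTheta, Rel.ker_eq_center _ certF4 hnb]
  exact center_cover_bot (D := chevF4) (by simp)

/-- The kernel of a stem extension is generated by an element of order dividing two. -/
theorem ker_stem {Γ : Type v} [Group Γ] (σ : Γ →* ↥(chevF4.group K))
    (hσ : Cfsg.IsStemExtension σ) :
    ∃ z : σ.ker, z ^ 2 = 1 ∧ ∀ w : σ.ker, w ∈ Subgroup.zpowers z := by
  have hΓ := commutator_eq_top_of_stem hσ (commutator_group_F4 (K := K))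
  let Y : Ext chevF4 K Γ :=
    { θ := (chevF4.group K).subtype.comp σ
      central := fun z hz => hσ.2.1 (MonoidHom.mem_ker.2 (Subtype.ext hz))
      range_eq := by
        rw [MonoidHom.range_comp, MonoidHom.range_eq_top.2 hσ.1, ← MonoidHom.range_eq_map,
          Subgroup.range_subtype]
      perfect := hΓ }
  set z₀ : Γ := defect Y with hz₀
  have hzθ : Y.θ z₀ = 1 := θ_defect hF Y
  set N : Subgroup Γ := Subgroup.zpowers z₀ with hN
  have hNk : N ≤ Y.θ.ker := by rw [hN, Subgroup.zpowers_le]; exact hzθ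
  have : N.Normal := ⟨fun a ha g => by
    rw [Subgroup.mem_center_iff.1 (Y.central (hNk ha)) g, mul_inv_cancel_right]; exact ha⟩
  let Y' : Ext chevF4 K (Γ ⧸ N) :=
    { θ := QuotientGroup.lift N Y.θ hNk
      central := by
        intro z
        refine QuotientGroup.induction_on z fun a ha => Subgroup.mem_center_iff.2 fun y => ?_
        refine QuotientGroup.induction_on y fun b => ?_
        exact congrArg (QuotientGroup.mk' N) (Subgroup.mem_center_iff.1 (Y.central ha) b)
      range_eq := by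
        rw [← Y.range_eq]
        refine le_antisymm ?_ fun g ⟨a, ha⟩ => ⟨(a : Γ ⧸ N), ha⟩
        rintro _ ⟨z, rfl⟩
        exact QuotientGroup.induction_on z fun a => ⟨a, rfl⟩
      perfect := by
        rw [← Subgroup.map_top_of_surjective _ (QuotientGroup.mk'_surjective N), ← hΓ,
          commutator_def, commutator_def, Subgroup.map_commutator,
          Subgroup.map_top_of_surjective _ (QuotientGroup.mk'_surjective N)] }
  have hz' : defect Y' = 1 := by
    rw [← map_defect hF Y Y' (QuotientGroup.mk' N) fun _ => rfl]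
    exact (QuotientGroup.eq_one_iff z₀).2 (Subgroup.mem_zpowers z₀)
  obtain ⟨L, hL⟩ := rel_of_defect hF Y' hz'
  obtain ⟨ρ, hρ⟩ := L.exists_hom certF4
  set L₀ := certF4.relOf (R := chevF4.steinbergRelsAB K) le_rfl (steinbergRelsAB_subset chevF4 K)
  have hρ' : ∀ y, Y'.θ (ρ y) = L₀.π y := fun y => by rw [← hL]; exact hρ y
  have key : ∀ e, ∃ a ∈ ρ.range, Y'.θ e = Y'.θ a := fun e => by
    obtain ⟨y, hy⟩ := certF4.stTheta_surjective le_rfl (steinbergRelsAB_subset chevF4 K)
      ⟨_, Y'.θ_mem e⟩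
    exact ⟨ρ y, ⟨y, rfl⟩, ((congrArg Subtype.val hy).symm.trans (hρ' y).symm)⟩
  have htop : ρ.range = ⊤ := by
    rw [eq_top_iff, ← Y'.perfect, commutator_def, Subgroup.commutator_le]
    intro p _ q _
    obtain ⟨a, ha, ea⟩ := key p
    obtain ⟨b, hb, eb⟩ := key q
    rw [Y'.comm_congr ea eb, commutatorElement_def]
    exact mul_mem (mul_mem (mul_mem ha hb) (inv_mem ha)) (inv_mem hb)
  have hker : ∀ w : Γ, σ w = 1 → w ∈ N := by
    intro w hw
    obtain ⟨y, hy⟩ := MonoidHom.range_eq_top.1 htop (w : Γ ⧸ N)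
    have h1 : L₀.π y = 1 := by
      rw [← hρ', hy]
      exact congrArg Subtype.val hw
    have h2 : y = 1 := by
      have : y ∈ (certF4.stTheta (K := K) (R := chevF4.steinbergRelsAB K) le_rfl
          (steinbergRelsAB_subset chevF4 K)).ker := by rw [certF4.ker_stTheta]; exact h1
      rwa [ker_stTheta_F4 (K := K), Subgroup.mem_bot] at this
    rw [h2, map_one] at hy
    exact (QuotientGroup.eq_one_iff w).1 hy.symm
  refine ⟨⟨z₀, MonoidHom.mem_ker.2 (Subtype.ext hzθ)⟩,
    Subtype.ext (by rw [SubmonoidClass.coe_pow, pow_two]; exact defect_sq hF Y), fun w => ?_⟩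
  obtain ⟨k, hk⟩ := Subgroup.mem_zpowers_iff.1 (hker w.1 w.2)
  exact Subgroup.mem_zpowers_iff.2 ⟨k, Subtype.ext hk⟩

end CfsgLib.F4Two
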