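import Cfsg.Agent.Lib.Chev.F4Two.CoverMat
import Cfsg.Agent.Lib.Chev.F4Two.MultBound
import Cfsg.Agent.Lib.Chev.StCTAll
import Mathlib.GroupTheory.SpecificGroups.Cyclic

/-!
The double cover of the group of type F4 over two elements.
-/

set_option autoImplicit false
set_option maxRecDepth 100000

namespace CfsgLib.F4Two

open Cfsg.Lie CfsgLib.Chev Matrix
open scoped commutatorElement

universe u

variable {K : Type u} [Field K] [Fintype K] (hF : Fintype.card K = 2)
include hF

/-- The map of the rank two presentation. -/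
theorem exists_ctHom :
    ∃ f : chevF4.CurtisTitsGroup K →* U52 ⧸ signGroup, ∀ r ∈ rankTwoRoots,
      f (ctGen chevF4 K r 1) = qU r := by
  classical
  let g : Fin chevF4.nroots × K → U52 ⧸ signGroup := fun p => if p.2 = 0 then 1 else qU p.1.val
  have hn : chevF4.nroots = 48 := by rw [certF4.nroots_eq, sizes.1]
  have hst : ∀ r, r < 48 → ∀ t : K,
      FreeGroup.lift g (chevF4.stX r t) = if t = 0 then 1 else qU r := by
    intro r hr t
    rw [ChevalleyDatum.stX, dif_pos (by rw [hn]; exact hr), FreeGroup.lift_apply_of]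
  have hq : ∀ r, qU r * qU r = 1 := fun r => by
    show ((gU r * gU r : U52) : U52 ⧸ signGroup) = 1
    rw [gU_sq]; rfl
  have hlt : ∀ {i j r : ℕ}, chevF4.InRankTwoSub i j r →
      i < 4 ∧ j < 4 ∧ r < 48 ∧ tabF4.inSub i j r = true := by
    intro i j r h
    have h' := (Tab.inSub_iff certF4).2 h
    obtain ⟨a, b, c⟩ := Tab.inSub_spec h'
    rw [sizes.2] at a b
    rw [sizes.1] at c
    exact ⟨a, b, c, h'⟩
  have hrel : ∀ a ∈ chevF4.curtisTitsRels K, FreeGroup.lift g a = 1 := by
    rintro a (((⟨r, t, hr, hno, rfl⟩ | ⟨i, j, r, t, u, hr, rfl⟩) |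
      ⟨i, j, r, s, t, u, hr, hs, hne, hneg, rfl⟩) | ⟨i, j, r, t, u, hr, ht, hu, rfl⟩)
    · rw [hn] at hr
      have hout : r ∉ rankTwoRoots := fun hm => by
        obtain ⟨i, j, hij⟩ := Tab.inP2_iff.1 (List.all_eq_true.1 inP2_ok r hm)
        exact hno i j ((Tab.inSub_iff certF4).1 hij)
      rw [hst r hr, qU, gU_out hout]
      split <;> rfl
    · obtain ⟨-, -, hr', -⟩ := hlt hr
      rw [map_mul, map_mul, map_inv, hst r hr', hst r hr', hst r hr', mul_inv_eq_one]
      have := charTwo hF
      rcases two_cases hF t with rfl | rfl <;> rcases two_cases hF u with rfl | rfl <;>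
        simp [hq, CharTwo.add_self_eq_zero]
    · obtain ⟨hi, hj, hr', hri⟩ := hlt hr
      obtain ⟨-, -, hs', hsi⟩ := hlt hs
      rw [certF4.neg_eq (lt48 hr')] at hneg
      have hc := span_cover
      simp only [List.all_eq_true, List.mem_range, Bool.or_eq_true, Bool.not_eq_true',
        Bool.and_eq_false_iff, List.any_eq_true, decide_eq_true_eq] at hc
      obtain ⟨l, hl, hrl, hsl⟩ := (hc i hi j hj r hr' s hs').resolve_left (by simp [hri, hsi])
      have he := exps_ok
      simp only [List.all_eq_true, decide_eq_true_eq] at he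
      have he' := he l hl r hrl s hsl
      rw [map_mul, map_mul, map_mul, map_mul, map_inv, map_inv, map_inv, hst r hr', hst s hs',
        mul_inv_eq_one, ChevalleyDatum.stWord, map_list_prod, ChevalleyDatum.commWord,
        certF4.commTerms_eq (lt48 hr') (lt48 hs'), List.map_map, List.map_map]
      have hterm : ((tabF4.commTerms r s).map fun c =>
          if (c.2.1 : K) * (-t) ^ c.2.2.1 * u ^ c.2.2.2 = 0 then (1 : U52 ⧸ signGroup)
          else qU c.1).prod = if t = 0 ∨ u = 0 then 1 else ((oddTerms r s).map qU).prod := by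
        by_cases h0 : t = 0 ∨ u = 0
        · rw [if_pos h0]
          refine List.prod_eq_one fun x hx => ?_
          obtain ⟨c, hc', rfl⟩ := List.mem_map.1 hx
          rw [if_pos]
          obtain ⟨e1, e2⟩ := he' c hc'
          rcases h0 with rfl | rfl
          · rw [neg_zero, zero_pow e1, mul_zero, zero_mul]
          · rw [zero_pow e2, mul_zero]
        · rw [if_neg h0]
          push Not at h0
          obtain rfl := (two_cases hF t).resolve_left h0.1
          obtain rfl := (two_cases hF u).resolve_left h0.2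
          simp only [neg_eq' hF, one_pow, mul_one, oddTerms]
          induction tabF4.commTerms r s with
          | nil => rfl
          | cons c L ih =>
            rw [List.map_cons, List.prod_cons, ih, List.filter_cons]
            by_cases hc' : c.2.1 % 2 = 0
            · have : (c.2.1 : K) = 0 := by rw [cast_mod hF, hc', Int.cast_zero]
              simp [hc', this]
            · have : (c.2.1 : K) = 1 := cast_odd hF hc'
              simp [hc', this]
      refine Eq.trans ?_ ((hterm.symm).trans (congrArg List.prod (List.map_congr_left fun c hc' => ?_)))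
      · rcases two_cases hF t with rfl | rfl <;> rcases two_cases hF u with rfl | rfl
        · simp
        · simp
        · simp
        · rw [if_neg one_ne_zero, if_neg one_ne_zero, if_neg (by simp),
            inv_eq_of_mul_eq_one_right (hq s), inv_eq_of_mul_eq_one_right (hq r)]
          exact qU_rel hl hrl hsl hne hneg
      · have hlt' := certF4.commTerms_lt (lt48 hr') (lt48 hs') hc'
        rw [sizes.1] at hlt'
        exact (hst c.1 hlt' _).symm
    · obtain ⟨-, -, hr', -⟩ := hlt hr
      obtain rfl := (two_cases hF t).resolve_left ht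
      obtain rfl := (two_cases hF u).resolve_left hu
      have hn' : tabF4.neg r < 48 := by rw [Tab.neg, sizes.1]; omega
      have hh : FreeGroup.lift g (chevF4.stH r (1 : K)) = 1 := by
        simp only [ChevalleyDatum.stH, ChevalleyDatum.stWord, ChevalleyDatum.hWord,
          ChevalleyDatum.nWord, List.map_cons, List.map_nil, List.map_append, List.prod_cons,
          List.prod_nil, List.prod_append, map_mul, mul_one, certF4.neg_eq (lt48 hr'),
          hst r hr', hst _ hn', neg_eq' hF, inv_one, one_ne_zero, if_false]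
        calc qU r * (qU (tabF4.neg r) * qU r) * (qU r * (qU (tabF4.neg r) * qU r))
            = qU r * qU (tabF4.neg r) * (qU r * qU r) * qU (tabF4.neg r) * qU r := by group
          _ = 1 := by rw [hq, mul_one, mul_assoc (qU r) (qU (tabF4.neg r)), hq, mul_one, hq]
      rw [mul_one, map_mul, map_mul, map_inv, hh, one_mul, inv_one, mul_one]
  refine ⟨PresentedGroup.toGroup hrel, fun r hr => ?_⟩
  have hr' : r < 48 := by
    have : ∀ r ∈ rankTwoRoots, r < 48 := by decide +kernel
    exact this r hr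
  refine ((hst r hr' 1).trans ?_)
  rw [if_neg one_ne_zero]

/-- The map of the group to the matrices up to the sign. -/
theorem exists_projHom :
    ∃ φ : ↥(chevF4.group K) →* U52 ⧸ signGroup, ∀ r ∈ rankTwoRoots, ∀ hm,
      φ ⟨X chevF4 r (1 : K), hm⟩ = qU r := by
  obtain ⟨f, hf⟩ := exists_ctHom hF
  obtain ⟨e, he⟩ := curtis_tits_all (K := K) (D := chevF4) (by simp)
  obtain ⟨e₂, he₂⟩ := cover_equiv_steinberg (K := K) (D := chevF4) (by simp)
  set θ := certF4.stTheta (K := K) (R := chevF4.steinbergRelsAB K) le_rfl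
    (steinbergRelsAB_subset chevF4 K) with hθ
  let eθ : chevF4.SteinbergCover K ≃* ↥(chevF4.group K) :=
    MulEquiv.ofBijective θ ⟨θ.ker_eq_bot_iff.1 (ker_stTheta_F4 (K := K)),
      certF4.stTheta_surjective _ _⟩
  refine ⟨f.comp (e.symm.toMonoidHom.comp (e₂.toMonoidHom.comp eθ.symm.toMonoidHom)),
    fun r hr hm => ?_⟩
  obtain ⟨i, j, hij⟩ := Tab.inP2_iff.1 (List.all_eq_true.1 inP2_ok r hr)
  have hrn : r < tabF4.n := (Tab.inSub_spec hij).2.2
  have h1 : eθ (chevF4.scGen K r 1) = ⟨X chevF4 r 1, hm⟩ :=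
    Subtype.ext (Units.ext (by
      show ((θ _ : GL chevF4.Idx K) : Matrix chevF4.Idx chevF4.Idx K) = _
      rw [hθ, certF4.coe_X]
      exact certF4.stTheta_x _ _ hrn (1 : K)))
  show f (e.symm (e₂ (eθ.symm _))) = _
  rw [← h1, eθ.symm_apply_apply, he₂, ← he i j r 1 ((Tab.inSub_iff certF4).1 hij),
    e.symm_apply_apply]
  exact hf r hr

/-- The double cover. -/
theorem exists_cover :
    ∃ (Γ : Type u) (_ : Group Γ) (_ : Finite Γ) (σ : Γ →* ↥(chevF4.group K)),
      Cfsg.IsStemExtension σ ∧ Nonempty (σ.ker ≃* Multiplicative (ZMod 2)) := by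
  obtain ⟨φ, hφ⟩ := exists_projHom hF
  have hR : ∀ r ∈ rankTwoRoots, r < 48 := by decide +kernel
  let P : Subgroup (↥(chevF4.group K) × U52) :=
    (φ.comp (MonoidHom.fst _ _)).eqLocus
      ((QuotientGroup.mk' signGroup).comp (MonoidHom.snd _ _))
  let σ : ↥P →* ↥(chevF4.group K) := (MonoidHom.fst _ _).comp P.subtype
  have hsurj : Function.Surjective σ := fun y => by
    obtain ⟨m, hm⟩ := QuotientGroup.mk'_surjective signGroup (φ y)
    exact ⟨⟨(y, m), hm.symm⟩, rfl⟩
  let A : ∀ r, r ∈ rankTwoRoots → ↥P := fun r hr =>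
    ⟨(⟨X chevF4 r 1, certF4.X_mem_group (lt48 (hR r hr)) _⟩, gU r), hφ r hr _⟩
  let Z : ↥P := ⟨(1, -1), by
    show φ 1 = ((-1 : U52) : U52 ⧸ signGroup)
    rw [map_one, eq_comm, QuotientGroup.eq_one_iff]
    exact Subgroup.mem_zpowers _⟩
  have ext' : ∀ {p q : ↥P}, (p.1.1 : GL chevF4.Idx K) = q.1.1 → p.1.2 = q.1.2 → p = q :=
    fun h1 h2 => Subtype.ext (Prod.ext (Subtype.ext h1) h2)
  obtain ⟨s1, s2, r1, r2, hmem⟩ := id_tabs
  simp only [List.all_eq_true, decide_eq_true_eq] at hmem
  have m : ∀ r ∈ [34, 14, 26, 23, 25, 22, 27, 20, 28, 30], r ∈ rankTwoRoots := hmem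
  have i1 := ids_ok
  simp only [Bool.and_eq_true] at i1
  obtain ⟨⟨⟨⟨j1, j2⟩, j3⟩, j4⟩, j5⟩ := i1
  have hinv : ∀ r, (gU r)⁻¹ = gU r := fun r => inv_eq_of_mul_eq_one_right (gU_sq r)
  -- brackets
  have brk : ∀ a b c (ha : a ∈ rankTwoRoots) (hb : b ∈ rankTwoRoots) (hc : c ∈ rankTwoRoots),
      brTo a b c = true → sameP [a, b, a, b] [c] = true → A c hc ∈ commutator ↥P := by
    intro a b c ha hb hc hbr hs
    have e : ⁅A a ha, A b hb⁆ = A c hc := by
      refine ext' ?_ ?_
      · show ⁅X chevF4 a (1 : K), X chevF4 b 1⁆ = X chevF4 c 1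
        obtain ⟨ha', hb', hne, hneg, d, hd, hodd⟩ := brTo_spec hbr
        rw [commutatorElement_def, X_inv_one hF ha', X_inv_one hF hb']
        have e := certF4.X_conj (F := K) (lt48 ha') (lt48 hb') hne hneg 1 1
        rw [hd] at e
        simp only [List.map_cons, List.map_nil, List.prod_cons, List.prod_nil, mul_one, pow_one,
          cast_odd hF hodd, neg_eq' hF] at e
        rw [e, mul_assoc, ← (commute_zero hF (brTo_zero' hbr) 1 1).eq, ← mul_assoc, X_sq hF hb',
          one_mul]
      · show ⁅gU a, gU b⁆ = gU c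
        have := gU_same (u := [a, b, a, b]) (v := [c]) (by simp [ha, hb]) (by simp [hc]) hs
        simpa [commutatorElement_def, hinv, mul_assoc] using this
    rw [← e]
    exact Subgroup.commutator_mem_commutator (Subgroup.mem_top _) (Subgroup.mem_top _)
  have c27 := brk 34 14 27 (m 34 (by simp)) (m 14 (by simp)) (m 27 (by simp)) (by decide +kernel) j1
  have c25 := brk 26 23 25 (m 26 (by simp)) (m 23 (by simp)) (m 25 (by simp)) (by decide +kernel) j2
  have cnj : ∀ i a b c (hi : i < 4) (ha : a ∈ rankTwoRoots) (hb : b ∈ rankTwoRoots)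
      (hc : c ∈ rankTwoRoots) (hn : tabF4.neg a ∈ rankTwoRoots),
      tabF4.simple i = a → tabF4.refl i b = c →
      sameP [a, tabF4.neg a, a, b, a, tabF4.neg a, a] [c] = true →
      A b hb ∈ commutator ↥P → A c hc ∈ commutator ↥P := by
    intro i a b c hi ha hb hc hn hsi hrb hs hmemb
    set N := A a ha * A (tabF4.neg a) hn * A a ha
    have e : N * A b hb * N⁻¹ = A c hc := by
      refine ext' ?_ ?_
      · show X chevF4 a (1 : K) * X chevF4 (tabF4.neg a) 1 * X chevF4 a 1 * X chevF4 b 1 *
          (X chevF4 a (1 : K) * X chevF4 (tabF4.neg a) 1 * X chevF4 a 1)⁻¹ = X chevF4 c 1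
        have hn' : nS chevF4 K i =
            X chevF4 a (1 : K) * X chevF4 (tabF4.neg a) 1 * X chevF4 a 1 := by
          rw [nS, certF4.simple_eq (lt4 hi), hsi, nU, certF4.neg_eq (lt48 (hR a ha)), inv_one,
            neg_eq' hF]
        rw [← hn', certF4.nS_conj_X (lt4 hi) (lt48 (hR b hb)), eta_cast hF, mul_one, hrb]
      · show gU a * gU (tabF4.neg a) * gU a * gU b * (gU a * gU (tabF4.neg a) * gU a)⁻¹ = gU c
        have := gU_same (u := [a, tabF4.neg a, a, b, a, tabF4.neg a, a]) (v := [c])
          (by simp [ha, hn, hb]) (by simp [hc]) hs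
        simpa [_root_.mul_inv_rev, hinv, mul_assoc] using this
    rw [← e]
    exact Subgroup.Normal.conj_mem inferInstance _ hmemb _
  have hneg : tabF4.neg 25 = 22 ∧ tabF4.neg 27 = 20 := by decide +kernel
  have c28 := cnj 2 25 27 28 (by norm_num) (m 25 (by simp)) (m 27 (by simp)) (m 28 (by simp))
    (by rw [hneg.1]; exact m 22 (by simp)) s2 r2 (by rw [hneg.1]; exact j3) c27
  have c30 := cnj 1 27 25 30 (by norm_num) (m 27 (by simp)) (m 25 (by simp)) (m 30 (by simp))
    (by rw [hneg.2]; exact m 20 (by simp)) s1 r1 (by rw [hneg.2]; exact j4) c25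
  have hZmem : Z ∈ commutator ↥P := by
    have e : A 25 (m 25 (by simp)) * A 27 (m 27 (by simp)) * A 25 (m 25 (by simp)) *
        (A 27 (m 27 (by simp)) * (A 28 (m 28 (by simp)) * A 30 (m 30 (by simp))))⁻¹ = Z := by
      refine ext' ?_ ?_
      · show X chevF4 25 (1 : K) * X chevF4 27 1 * X chevF4 25 1 *
          (X chevF4 27 (1 : K) * (X chevF4 28 1 * X chevF4 30 1))⁻¹ = 1
        have e := certF4.X_conj (F := K) (lt48 (r := 25) (by norm_num)) (lt48 (r := 27) (by norm_num))
          (by norm_num) (by rw [Tab.neg, sizes.1]; norm_num) 1 1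
        have hp : ((tabF4.commTerms 25 27).map fun c =>
            X chevF4 c.1 ((c.2.1 : K) * (-1) ^ c.2.2.1 * 1 ^ c.2.2.2)) =
            ((tabF4.commTerms 25 27).map fun c : ℕ × ℤ × ℕ × ℕ => (c.1, c.2.1 % 2, c.2.2)).map
              fun c => X chevF4 c.1 ((c.2.1 : K)) := by
          rw [List.map_map]
          refine List.map_congr_left fun c _ => ?_
          simp [neg_eq' hF, ← cast_mod hF]
        rw [hp, id_terms] at e
        simp only [List.map_cons, List.map_nil, List.prod_cons, List.prod_nil, mul_one,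
          Int.cast_one, neg_eq' hF] at e
        rw [e, mul_inv_cancel]
      · show gU 25 * gU 27 * gU 25 * (gU 27 * (gU 28 * gU 30))⁻¹ = -1
        have := gU_opp (u := [25, 27, 25]) (v := [27, 28, 30])
          (by simp [m 25, m 27]) (by simp [m 27, m 28, m 30]) j5
        simp only [List.map_cons, List.map_nil, List.prod_cons, List.prod_nil, mul_one] at this
        rw [mul_assoc (gU 25) (gU 27), this, ← neg_one_mul, mul_assoc, mul_inv_cancel, mul_one]
    rw [← e]
    exact mul_mem (mul_mem (mul_mem c25 c27) c25) (inv_mem (mul_mem c27 (mul_mem c28 c30)))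
  have hkerle : σ.ker ≤ Subgroup.zpowers Z := by
    intro p hp
    have hp1 : p.1.1 = 1 := hp
    have hp2 : φ p.1.1 = ((p.1.2 : U52) : U52 ⧸ signGroup) := p.2
    rw [hp1, map_one, eq_comm, QuotientGroup.eq_one_iff] at hp2
    obtain ⟨k, hk⟩ := Subgroup.mem_zpowers_iff.1 hp2
    refine Subgroup.mem_zpowers_iff.2 ⟨k, Subtype.ext (Prod.ext ?_ ?_)⟩
    · rw [SubgroupClass.coe_zpow, Prod.pow_fst]
      show (1 : ↥(chevF4.group K)) ^ k = p.1.1
      rw [_root_.one_zpow, hp1]
    · rw [SubgroupClass.coe_zpow, Prod.pow_snd]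
      exact hk
  have hker : σ.ker = Subgroup.zpowers Z :=
    le_antisymm hkerle (by rw [Subgroup.zpowers_le]; rfl)
  have hstem : Cfsg.IsStemExtension σ := by
    refine ⟨hsurj, fun p hp => ?_, hkerle.trans (Subgroup.zpowers_le.2 hZmem)⟩
    have hZc : Z ∈ Subgroup.center ↥P := Subgroup.mem_center_iff.2 fun q =>
      Subtype.ext (Prod.ext ((mul_one _).trans (one_mul _).symm)
        (Subgroup.mem_center_iff.1 neg_one_center q.1.2))
    exact Subgroup.zpowers_le.2 hZc (hkerle hp)
  have hord : orderOf Z = 2 := by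
    refine orderOf_eq_prime (Subtype.ext (Prod.ext (one_pow 2) (neg_one_sq))) ?_
    intro h
    have h2 : ((Z.1.2 : U52) : Matrix (Fin 52) (Fin 52) (ZMod 3)) 0 0 =
        ((1 : U52) : Matrix (Fin 52) (Fin 52) (ZMod 3)) 0 0 :=
      congrArg (fun p : ↥P => ((p.1.2 : U52) : Matrix (Fin 52) (Fin 52) (ZMod 3)) 0 0) h
    simp only [Z, Units.val_neg, Units.val_one, Matrix.neg_apply, Matrix.one_apply_eq] at h2
    exact absurd h2 (by decide)
  have hcard : Nat.card σ.ker = 2 := by rw [hker, Nat.card_zpowers, hord]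
  refine ⟨↥P, inferInstance, inferInstance, σ, hstem, ⟨?_⟩⟩
  have : Fact (Nat.Prime 2) := ⟨Nat.prime_two⟩
  exact mulEquivOfPrimeCardEq hcard (by rw [Nat.card_congr Multiplicative.toAdd, Nat.card_zmod])

end CfsgLib.F4Two
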