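import Cfsg.Agent.Lib.Chev.F4Two.ChkGen
import Cfsg.Agent.Lib.Chev.F4Two.ChkSpan0
import Cfsg.Agent.Lib.Chev.F4Two.ChkSpan1
import Cfsg.Agent.Lib.Chev.F4Two.ChkSpan2
import Cfsg.Agent.Lib.Chev.F4Two.ChkSpan3
import Cfsg.Agent.Lib.Chev.F4Two.ChkSpan4
import Cfsg.Agent.Lib.Chev.F4Two.ChkSpan5
import Cfsg.Agent.Lib.Chev.F4Two.ChkId

/-!
The matrices of degree 52 as units, and their relations up to the sign.
-/

set_option autoImplicit false
set_option maxRecDepth 100000

namespace CfsgLib.F4Two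

open CfsgLib.Chev

/-- The group of invertible matrices of degree 52. -/
abbrev U52 : Type := (Matrix (Fin 52) (Fin 52) (ZMod 3))ˣ

theorem eqL_eq : ∀ {A B : List ℕ}, eqL A B = true → A = B
  | [], [], _ => rfl
  | a :: as, b :: bs, h => by
    rw [eqL, Bool.and_eq_true, Nat.beq_eq] at h
    rw [h.1, eqL_eq h.2]
  | [], _ :: _, h => by simp [eqL] at h
  | _ :: _, [], h => by simp [eqL] at h

/-- The matrix of a root, unpacked. -/
def gL (r : ℕ) : List (List ℕ) := (rowsOf r).map (unpack 52)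

/-- The product of a word, unpacked. -/
def prodL : List ℕ → List (List ℕ)
  | [] => scalM 1
  | [r] => gL r
  | r :: w => mulM (gL r) (prodL w)

lemma gen_spec {r : ℕ} (hr : r ∈ rankTwoRoots) :
    shapeOK (gL r) = true ∧ (gL r).map pack = rowsOf r := by
  have h := List.all_eq_true.1 gen_ok r hr
  simp only [genOK, Bool.and_eq_true, List.all_eq_true, rowOK] at h
  obtain ⟨⟨hl, hrow⟩, -⟩ := h
  refine ⟨?_, ?_⟩
  · simp only [shapeOK, gL, Bool.and_eq_true, List.all_eq_true, Nat.blt_eq, List.length_map,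
      List.mem_map, Nat.eq_of_beq_eq_true hl, Nat.beq_refl, true_and]
    rintro _ ⟨x, -, rfl⟩
    exact ⟨by rw [length_unpack]; rfl, lt_unpack _ _⟩
  · rw [gL, List.map_map]
    conv_rhs => rw [← List.map_id (rowsOf r)]
    exact List.map_congr_left fun x hx => Nat.eq_of_beq_eq_true (hrow x hx)

lemma scal_pack {s : ℕ} (hs : s = 1 ∨ s = 2) : scalRows s = (scalM s).map pack := by
  have h := List.all_eq_true.1 scal_ok s (by rcases hs with rfl | rfl <;> simp)
  exact eqL_eq h

lemma prod_spec : ∀ {w : List ℕ}, (∀ r ∈ w, r ∈ rankTwoRoots) →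
    shapeOK (prodL w) = true ∧ prodP w = (prodL w).map pack ∧
      mat (prodL w) = (w.map fun r => mat (gL r)).prod
  | [], _ => ⟨shape_scal 1, scal_pack (Or.inl rfl), by
      rw [prodL, mat_scal, List.map_nil, List.prod_nil, Nat.cast_one, map_one]⟩
  | [r], h => by
    obtain ⟨h1, h2⟩ := gen_spec (h r List.mem_cons_self)
    exact ⟨h1, by rw [prodP, prodL, h2], by simp [prodL]⟩
  | r :: s :: w, h => by
    obtain ⟨h1, h2⟩ := gen_spec (h r List.mem_cons_self)
    obtain ⟨i1, i2, i3⟩ := prod_spec (w := s :: w) fun x hx => h x (List.mem_cons_of_mem _ hx)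
    refine ⟨shape_mul _ h1, ?_, ?_⟩
    · rw [prodP, prodL, i2, ← h2, mulP_pack _ h1]
      all_goals simp
    · rw [prodL, mat_mul h1 i1, i3]
      · simp
      all_goals simp

lemma mat_same {u v : List ℕ} (hu : ∀ r ∈ u, r ∈ rankTwoRoots) (hv : ∀ r ∈ v, r ∈ rankTwoRoots)
    (h : sameP u v = true) :
    (u.map fun r => mat (gL r)).prod = (v.map fun r => mat (gL r)).prod := by
  obtain ⟨a1, a2, a3⟩ := prod_spec hu
  obtain ⟨b1, b2, b3⟩ := prod_spec hv
  have e := eqL_eq h
  rw [a2, b2] at e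
  rw [← a3, ← b3, pack_inj a1 b1 e]

lemma mat_opp {u v : List ℕ} (hu : ∀ r ∈ u, r ∈ rankTwoRoots) (hv : ∀ r ∈ v, r ∈ rankTwoRoots)
    (h : oppP u v = true) :
    (u.map fun r => mat (gL r)).prod = -(v.map fun r => mat (gL r)).prod := by
  obtain ⟨a1, a2, a3⟩ := prod_spec hu
  obtain ⟨b1, b2, b3⟩ := prod_spec hv
  have e := eqL_eq h
  rw [a2, b2, scal_pack (Or.inr rfl), mulP_pack _ (shape_scal 2)] at e
  rw [← a3, ← b3, pack_inj a1 (shape_mul _ (shape_scal 2)) e, mat_mul (shape_scal 2) b1, mat_scal,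
    show ((2 : ℕ) : ZMod 3) = -1 by decide, map_neg, map_one, neg_one_mul]

lemma mat_sq {r : ℕ} (hr : r ∈ rankTwoRoots) : mat (gL r) * mat (gL r) = 1 := by
  have h := List.all_eq_true.1 gen_ok r hr
  simp only [genOK, Bool.and_eq_true] at h
  simpa using mat_same (u := [r, r]) (v := []) (by simp [hr]) (by simp) h.2

/-- The lift of a root element. -/
noncomputable def gU (r : ℕ) : U52 :=
  if hr : r ∈ rankTwoRoots then ⟨mat (gL r), mat (gL r), mat_sq hr, mat_sq hr⟩ else 1

lemma gU_sq (r : ℕ) : gU r * gU r = 1 := by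
  unfold gU
  split
  next hr => exact Units.ext (mat_sq hr)
  next => exact one_mul 1

lemma gU_out {r : ℕ} (hr : r ∉ rankTwoRoots) : gU r = 1 := dif_neg hr

lemma gU_word : ∀ {w : List ℕ}, (∀ r ∈ w, r ∈ rankTwoRoots) →
    ((w.map gU).prod : U52).val = (w.map fun r => mat (gL r)).prod
  | [], _ => rfl
  | r :: w, h => by
    rw [List.map_cons, List.prod_cons, List.map_cons, List.prod_cons, Units.val_mul,
      gU_word fun x hx => h x (List.mem_cons_of_mem _ hx), gU, dif_pos (h r List.mem_cons_self)]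

lemma gU_same {u v : List ℕ} (hu : ∀ r ∈ u, r ∈ rankTwoRoots) (hv : ∀ r ∈ v, r ∈ rankTwoRoots)
    (h : sameP u v = true) : (u.map gU).prod = (v.map gU).prod :=
  Units.ext (by rw [gU_word hu, gU_word hv, mat_same hu hv h])

lemma gU_opp {u v : List ℕ} (hu : ∀ r ∈ u, r ∈ rankTwoRoots) (hv : ∀ r ∈ v, r ∈ rankTwoRoots)
    (h : oppP u v = true) : (u.map gU).prod = -(v.map gU).prod :=
  Units.ext (by rw [Units.val_neg, gU_word hu, gU_word hv, mat_opp hu hv h])

/-- The subgroup of the sign. -/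
abbrev signGroup : Subgroup U52 := Subgroup.zpowers (-1)

lemma neg_one_center : (-1 : U52) ∈ Subgroup.center U52 :=
  Subgroup.mem_center_iff.2 fun g => by rw [mul_neg, mul_one, neg_one_mul]

instance : signGroup.Normal := ⟨fun a ha g => by
  rw [Subgroup.mem_center_iff.1 (Subgroup.zpowers_le.2 neg_one_center ha) g, mul_inv_cancel_right]
  exact ha⟩

/-- The class of a lift up to the sign. -/
noncomputable def qU (r : ℕ) : U52 ⧸ signGroup := (gU r : U52 ⧸ signGroup)

lemma qU_prod (w : List ℕ) : (w.map qU).prod = (((w.map gU).prod : U52) : U52 ⧸ signGroup) := by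
  show _ = QuotientGroup.mk' signGroup _
  rw [map_list_prod, List.map_map]
  rfl

lemma spans_sub : ∀ l ∈ spansF4, ∀ r ∈ l, r ∈ rankTwoRoots := by decide +kernel

lemma terms_mem : ∀ l ∈ spansF4, ∀ r ∈ l, ∀ s ∈ l, ∀ q ∈ oddTerms r s, q ∈ rankTwoRoots := by
  decide +kernel

lemma span_ok {l : List ℕ} (hl : l ∈ spansF4) : spanOK l = true := by
  obtain ⟨i, hi, rfl⟩ := List.getElem_of_mem hl
  rw [spans_len] at hi
  rw [← List.getD_eq_getElem spansF4 [] (by rw [spans_len]; exact hi)]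
  interval_cases i
  exacts [span_ok_0, span_ok_1, span_ok_2, span_ok_3, span_ok_4, span_ok_5]

/-- The relations up to the sign. -/
theorem qU_rel {l : List ℕ} (hl : l ∈ spansF4) {r s : ℕ} (hr : r ∈ l) (hs : s ∈ l) (hne : s ≠ r)
    (hneg : s ≠ tabF4.neg r) :
    qU s * qU r * qU s * qU r = ((oddTerms r s).map qU).prod := by
  have h := span_ok hl
  simp only [spanOK, List.all_eq_true] at h
  have h1 := h r hr s hs
  have b1 : Nat.beq s r = false :=
    Bool.eq_false_iff.2 fun e => hne (Nat.eq_of_beq_eq_true e)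
  have b2 : Nat.beq s (tabF4.neg r) = false :=
    Bool.eq_false_iff.2 fun e => hneg (Nat.eq_of_beq_eq_true e)
  rw [relOK, b1, b2, Bool.false_or, Bool.false_or] at h1
  have hu : ∀ x ∈ [s, r, s, r], x ∈ rankTwoRoots := by
    simp [spans_sub l hl r hr, spans_sub l hl s hs]
  have hv := terms_mem l hl r hr s hs
  rw [show qU s * qU r * qU s * qU r = ([s, r, s, r].map qU).prod by simp [mul_assoc], qU_prod,
    qU_prod]
  cases hb : twistedPairs.any fun p => Nat.beq p.1 r && Nat.beq p.2 s with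
  | true =>
    rw [hb] at h1
    rw [gU_opp hu hv h1]
    refine QuotientGroup.eq.2 ?_
    rw [← neg_one_mul, _root_.mul_inv_rev, mul_assoc, ← Subgroup.mem_center_iff.1
      (inv_mem neg_one_center) _, ← mul_assoc, inv_mul_cancel, one_mul]
    exact inv_mem (Subgroup.mem_zpowers _)
  | false =>
    rw [hb] at h1
    rw [gU_same hu hv h1]

end CfsgLib.F4Two
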