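import Cfsg.Agent.Lib.Chev.F4Two.Mat
import Cfsg.Agent.Lib.CosetEnum.Basic

/-!
Products of matrices of degree 52 over three elements, computed on packed rows.
-/

set_option autoImplicit false

namespace CfsgLib.F4Two

open CfsgLib.CosetEnum (strict strict_eq)

/-- A combination of packed rows with the digits of a number as coefficients. -/
noncomputable def acc (n : ℕ) (B : List ℕ) : ℕ :=
  List.rec (motive := fun _ => ℕ → ℕ) (fun _ => 0)
    (fun b _ ih x => strict x fun v => strict (ih (v / 256)) fun a => v % 256 * b + a) B n

theorem acc_nil (n : ℕ) : acc n [] = 0 := rfl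

theorem acc_cons (n b : ℕ) (B : List ℕ) : acc n (b :: B) = n % 256 * b + acc (n / 256) B := by
  show strict n (fun v => strict (acc (v / 256) B) fun a => v % 256 * b + a) = _
  rw [strict_eq, strict_eq]

/-- The digits reduced modulo three. -/
noncomputable def red (k n : ℕ) : ℕ :=
  Nat.rec (motive := fun _ => ℕ → ℕ) (fun _ => 0)
    (fun _ ih x => strict x fun v => strict (ih (v / 256)) fun a => v % 256 % 3 + 256 * a) k n

theorem red_eq : ∀ k n, red k n = pack (unpack k n)
  | 0, _ => rfl
  | k + 1, n => by
    show strict n (fun v => strict (red k (v / 256)) fun a => v % 256 % 3 + 256 * a) = _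
    rw [strict_eq, strict_eq, red_eq k, unpack, pack]

theorem acc_pack : ∀ (cs B : List ℕ), (∀ x ∈ cs, x < 256) → acc (pack cs) B = comb cs B
  | [], [], _ => rfl
  | [], b :: B, _ => by
    have h := acc_pack [] B fun x hx => absurd hx List.not_mem_nil
    rw [acc_cons]
    simp only [pack, Nat.zero_mod, zero_mul, Nat.zero_div, zero_add, comb] at h ⊢
    exact h
  | c :: cs, [], _ => rfl
  | c :: cs, b :: B, h => by
    have hc := h c List.mem_cons_self
    rw [acc_cons, pack, Nat.add_mul_mod_self_left, Nat.mod_eq_of_lt hc,
      Nat.add_mul_div_left _ _ (by norm_num), Nat.div_eq_of_lt hc, zero_add,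
      acc_pack cs B fun x hx => h x (List.mem_cons_of_mem _ hx)]
    rfl

/-- The product on packed rows. -/
noncomputable def mulP (A B : List ℕ) : List ℕ :=
  List.rec (motive := fun _ => List ℕ) []
    (fun a _ ih => strict (red 52 (acc a B)) fun r => r :: ih) A

theorem mulP_eq : ∀ A B : List ℕ, mulP A B = A.map fun a => red 52 (acc a B)
  | [], _ => rfl
  | a :: A, B => by
    show strict (red 52 (acc a B)) (fun r => r :: mulP A B) = _
    rw [strict_eq, mulP_eq A B, List.map_cons]

theorem mulP_pack {A : List (List ℕ)} (B : List (List ℕ)) (hA : shapeOK A = true) :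
    mulP (A.map pack) (B.map pack) = (mulM A B).map pack := by
  rw [mulP_eq, mulM, List.map_map, List.map_map]
  refine List.map_congr_left fun r hr => ?_
  have hb := ((shape_spec hA).2 r hr).2
  simp only [Function.comp_apply]
  rw [acc_pack r _ fun x hx => lt_of_lt_of_le (hb x hx) (by norm_num), red_eq]

theorem unpack_pack : ∀ r : List ℕ, (∀ x ∈ r, x < 3) → unpack r.length (pack r) = r
  | [], _ => rfl
  | a :: l, h => by
    have ha : a < 3 := h a List.mem_cons_self
    rw [List.length_cons, unpack, pack, Nat.add_mul_mod_self_left,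
      Nat.mod_eq_of_lt (show a < 256 by omega), Nat.mod_eq_of_lt ha,
      Nat.add_mul_div_left _ _ (by norm_num), Nat.div_eq_of_lt (show a < 256 by omega), zero_add,
      unpack_pack l fun x hx => h x (List.mem_cons_of_mem _ hx)]

theorem shape_scal (s : ℕ) : shapeOK (scalM s) = true := by
  simp only [shapeOK, scalM, Bool.and_eq_true, List.all_eq_true, Nat.blt_eq, List.mem_map,
    List.length_map, List.length_range, Nat.beq_refl, true_and]
  rintro _ ⟨i, -, rfl⟩
  refine ⟨by simp, fun x hx => ?_⟩
  obtain ⟨j, -, rfl⟩ := List.mem_map.1 hx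
  split <;> omega

theorem pack_inj {A B : List (List ℕ)} (hA : shapeOK A = true) (hB : shapeOK B = true)
    (h : A.map pack = B.map pack) : A = B := by
  have key : ∀ A : List (List ℕ), shapeOK A = true → (A.map pack).map (unpack 52) = A := by
    intro A hA
    rw [List.map_map]
    nth_rw 2 [← List.map_id A]
    refine List.map_congr_left fun r hr => ?_
    obtain ⟨hl, hb⟩ := (shape_spec hA).2 r hr
    rw [Function.comp_apply, id_eq, ← hl, unpack_pack r hb]
  rw [← key A hA, ← key B hB, h]

end CfsgLib.F4Two
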