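import Cfsg.Agent.Lib.Chev.F4Two.Data
import Cfsg.Agent.Lib.Chev.F4Two.Packed
import Cfsg.Agent.Lib.Chev.CertF4

/-!
The checks for the matrices of degree 52 of the lifts of root elements.
-/

set_option autoImplicit false

namespace CfsgLib.F4Two

open CfsgLib.Chev

/-- The packed rows of a scalar matrix. -/
def scalRows (s : ℕ) : List ℕ := (List.range 52).map fun i => (s % 3) * 256 ^ i

/-- The product of a word on packed rows. -/
noncomputable def prodP : List ℕ → List ℕ
  | [] => scalRows 1
  | [r] => rowsOf r
  | r :: w => mulP (rowsOf r) (prodP w)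

/-- The word of the right hand side of a relation with unit parameters. -/
noncomputable def oddTerms (r s : ℕ) : List ℕ :=
  ((tabF4.commTerms r s).filter fun c => decide (c.2.1 % 2 ≠ 0)).map Prod.fst

/-- Two lists of the same value. -/
def eqL : List ℕ → List ℕ → Bool
  | [], [] => true
  | a :: as, b :: bs => Nat.beq a b && eqL as bs
  | _, _ => false

/-- A row has reduced digits. -/
def rowOK (n : ℕ) : Bool := Nat.beq (pack (unpack 52 n)) n

/-- Two words have the same matrix. -/
noncomputable def sameP (u v : List ℕ) : Bool := eqL (prodP u) (prodP v)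

/-- Two words have opposite matrices. -/
noncomputable def oppP (u v : List ℕ) : Bool := eqL (prodP u) (mulP (scalRows 2) (prodP v))

/-- A generator is an involution. -/
noncomputable def genOK (r : ℕ) : Bool :=
  Nat.beq (rowsOf r).length 52 && (rowsOf r).all rowOK && sameP [r, r] []

/-- The defect of a relation. -/
noncomputable def relOK (r s : ℕ) : Bool :=
  Nat.beq s r || Nat.beq s (tabF4.neg r) ||
    cond (twistedPairs.any fun p => Nat.beq p.1 r && Nat.beq p.2 s)
      (oppP [s, r, s, r] (oddTerms r s)) (sameP [s, r, s, r] (oddTerms r s))

/-- The relations of one subsystem hold up to the sign. -/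
noncomputable def spanOK (l : List ℕ) : Bool :=
  l.all fun r => l.all fun s => relOK r s

end CfsgLib.F4Two
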