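import Cfsg.Agent.Lib.Chev.StSmall
import Cfsg.Agent.Lib.Chev.CertF4

/-!
Finite checks on the tables of type F4 for the extensions over two elements.
-/

set_option autoImplicit false
set_option maxRecDepth 100000
set_option maxHeartbeats 1000000

namespace CfsgLib.F4Two

open CfsgLib.Chev

/-- A root as a bracket of two others modulo two. -/
noncomputable def brTo (a b r : ℕ) : Bool :=
  decide (a < 48 ∧ b < 48 ∧ b ≠ a ∧ b ≠ tabF4.neg a) &&
    match tabF4.commTerms a b with
    | [(k, c, 1, 1)] => Nat.beq k r && decide (c % 2 ≠ 0)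
    | _ => false

/-- A chosen bracket of each root. -/
def pairTab : List (ℕ × ℕ) :=
  [(1, 23), (0, 24), (0, 26), (7, 14), (0, 31), (0, 32), (1, 32), (3, 33), (3, 34), (3, 35),
    (3, 36), (3, 37), (3, 38), (3, 39), (3, 40), (0, 42), (0, 43), (1, 43), (7, 37), (7, 38),
    (7, 39), (0, 45), (1, 45), (0, 46), (1, 47), (2, 46), (2, 47), (8, 40), (9, 40), (10, 40),
    (4, 46), (4, 47), (5, 47), (7, 44), (8, 44), (9, 44), (10, 44), (11, 44), (12, 44), (13, 44),
    (14, 44), (15, 46), (15, 47), (16, 47), (33, 40), (21, 47), (23, 47), (24, 46)]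

/-- The chosen bracket of a root. -/
def pairOf (r : ℕ) : ℕ × ℕ := pairTab.getD r (0, 0)

/-- Nodes fixing a root. -/
def fixNodes (r : ℕ) : List ℕ := if r = 44 then [1, 2, 3] else [0, 1, 2]

/-- Pairs reached from a pair by swaps and reflections fixing the root. -/
noncomputable def reach (r : ℕ) : ℕ → List (ℕ × ℕ) → List (ℕ × ℕ)
  | 0, L => L
  | k + 1, L => reach r k ((L ++ L.flatMap fun p =>
      (p.2, p.1) :: (fixNodes r).map fun i => (tabF4.refl i p.1, tabF4.refl i p.2)).eraseDups)

theorem pairOf_ok : ((List.range 48).all fun r => brTo (pairOf r).1 (pairOf r).2 r) = true := by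
  decide +kernel

/-- The second root commutes with the bracket. -/
theorem brTo_zero : ((List.range 48).all fun a => (List.range 48).all fun b =>
    match tabF4.commTerms a b with
    | [(k, _, 1, 1)] => !brTo a b k || tabF4.chkZero 2 b k
    | _ => true) = true := by
  decide +kernel

/-- Reflections permute the brackets. -/
theorem brTo_refl : ((List.range 4).all fun i => (List.range 48).all fun a =>
    (List.range 48).all fun b =>
    match tabF4.commTerms a b with
    | [(k, _, 1, 1)] => !brTo a b k ||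
        brTo (tabF4.refl i a) (tabF4.refl i b) (tabF4.refl i k)
    | _ => true) = true := by
  decide +kernel

/-- The stabilisers of the two base roots connect their brackets. -/
theorem reach_ok : ([44, 47].all fun r =>
    ((fixNodes r).all fun i => decide (i < 4 ∧ tabF4.refl i r = r) &&
      tabF4.chkZero 2 r (tabF4.simple i) && tabF4.chkZero 2 r (tabF4.neg (tabF4.simple i))) &&
    (List.range 48).all fun a => (List.range 48).all fun b =>
      !brTo a b r || (reach r 3 [pairOf r]).any fun p => Nat.beq p.1 a && Nat.beq p.2 b) = true := by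
  decide +kernel

theorem splits_ok : ([(44, 15, 16, 22), (44, 33, 18, 36), (44, 41, 15, 46), (47, 10, 12, 20),
    (47, 24, 6, 42), (47, 29, 10, 40), (44, 44, 33, 40), (47, 47, 24, 46), (44, 23, 16, 30),
    (47, 14, 12, 28)].all fun e : ℕ × ℕ × ℕ × ℕ =>
      tabF4.chkSplit 2 e.1 e.2.1 e.2.2.1 e.2.2.2 &&
        decide ((tabF4.commTerms e.2.2.1 e.2.2.2).length = 1)) = true := by
  decide +kernel

theorem splitShort_ok : tabF4.chkSplit 2 44 18 15 28 = true ∧
    (tabF4.commTerms 15 28).tail.map Prod.fst = [23] := by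
  decide +kernel

theorem splitLong_ok : tabF4.chkZero 2 47 10 = true ∧ tabF4.chkZero 2 47 30 = true ∧
    (tabF4.commTerms 10 30).map (fun c : ℕ × ℤ × ℕ × ℕ => (c.1, c.2.1 % 2, c.2.2)) = [(14, 1, 1, 1), (6, 1, 2, 1)] := by
  decide +kernel

/-- The representative pairs with a term. -/
theorem base_pairs : (coverF4.base.all fun b => b.2.1.all fun a =>
    decide ((b.1, a) ∈ [(44, 0), (44, 7), (44, 15), (44, 18), (44, 33), (44, 41), (47, 1), (47, 3),
      (47, 6), (47, 10), (47, 24), (47, 29)])) = true := by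
  decide +kernel

theorem terms_44_0 :
    (tabF4.commTerms 44 0).map (fun c : ℕ × ℤ × ℕ × ℕ => (c.1, c.2.1 % 2, c.2.2)) = [(18, 1, 1, 1), (41, 1, 2, 1)] := by
  decide +kernel

theorem terms_0_44 :
    (tabF4.commTerms 0 44).map (fun c : ℕ × ℤ × ℕ × ℕ => (c.1, c.2.1 % 2, c.2.2)) = [(18, 1, 1, 1), (41, 1, 1, 2)] := by
  decide +kernel

theorem terms_47_3 :
    (tabF4.commTerms 47 3).map (fun c : ℕ × ℤ × ℕ × ℕ => (c.1, c.2.1 % 2, c.2.2)) = [(29, 1, 1, 1), (6, 1, 1, 2)] := by
  decide +kernel

theorem terms_44_7 :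
    (tabF4.commTerms 44 7).map (fun c : ℕ × ℤ × ℕ × ℕ => (c.1, c.2.1 % 2, c.2.2)) = [(33, 1, 1, 1)] := by
  decide +kernel

theorem terms_47_1 :
    (tabF4.commTerms 47 1).map (fun c : ℕ × ℤ × ℕ × ℕ => (c.1, c.2.1 % 2, c.2.2)) = [(24, 1, 1, 1)] := by
  decide +kernel

theorem terms_44_18 :
    (tabF4.commTerms 44 18).map (fun c : ℕ × ℤ × ℕ × ℕ => (c.1, c.2.1 % 2, c.2.2)) = [(41, 0, 1, 1)] := by
  decide +kernel

theorem value_facts : brTo 44 7 33 = true ∧ brTo 47 1 24 = true ∧
    tabF4.chkZero 2 18 41 = true ∧ tabF4.chkZero 2 29 6 = true ∧ tabF4.chkZero 2 47 29 = true ∧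
    tabF4.chkZero 2 47 6 = true := by
  decide +kernel

/-- A Weyl path from the pair `(47, 3)` to the pair `(0, 44)`. -/
def pathF4 : List ℕ := [0, 1, 2, 1, 0, 3, 2, 1, 0, 2, 1, 2, 3, 2, 1, 0, 2, 1, 2, 3]

/-- One step on a pair. -/
noncomputable def pathStep (p : ℕ × ℕ) (i : ℕ) : ℕ × ℕ := (tabF4.refl i p.1, tabF4.refl i p.2)

/-- Every step of a path is an edge. -/
noncomputable def pathOK : List ℕ → ℕ × ℕ → Bool
  | [], _ => true
  | i :: w, p => decide (i < 4 ∧ p.1 < 48 ∧ p.2 < 48) && tabF4.chkEdge i p.1 && pathOK w (pathStep p i)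

theorem path_ok : pathOK pathF4 (47, 3) = true ∧
    pathF4.foldl pathStep (47, 3) = (0, 44) := by
  decide +kernel

/-- Reflections preserve the pairs commuting modulo two. -/
theorem chkZero_refl : ((List.range 4).all fun i => (List.range 48).all fun r =>
    (List.range 48).all fun s => !tabF4.chkZero 2 (tabF4.refl i r) (tabF4.refl i s) ||
      tabF4.chkZero 2 r s) = true := by
  decide +kernel

theorem base_zero_false : tabF4.chkZero 2 44 0 = false ∧ tabF4.chkZero 2 44 7 = false ∧
    tabF4.chkZero 2 47 1 = false ∧ tabF4.chkZero 2 47 3 = false := by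
  decide +kernel

theorem terms_empty : ([(44, 15), (44, 33), (44, 41), (47, 6), (47, 10), (47, 24), (47, 29)].all
    fun p : ℕ × ℕ => (tabF4.commTerms p.1 p.2).isEmpty) = true := by
  decide +kernel

theorem sizes : tabF4.n = 48 ∧ tabF4.l = 4 := by decide +kernel

end CfsgLib.F4Two
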